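import Groth.Agent.L22.SymCorr.Rat
import Groth.Agent.L22.Cyc.PushPull
import Groth.Agent.L22.Cyc.PushRat
import Groth.Agent.L22.Cyc.Ord
import Groth.Agent.L22.Cyc.ClosedSub

/-!
A family of closed subvarieties parametrised by an open subset of the line, trivial as an abstract
family, gives rationally equivalent members.
-/

set_option autoImplicit false
set_option linter.style.haveILetI false
set_option backward.isDefEq.respectTransparency false
set_option backward.isDefEq.respectTransparency.types false

universe u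

open AlgebraicGeometry CategoryTheory CategoryTheory.Limits Groth.L22.Cyc Groth.L22.SymCorr
open scoped Classical

noncomputable section

namespace Groth.L22.Translate

open Line (PL str)

theorem mult_eq_one_of_fiber {W U : Scheme.{u}} (f : W ⟶ U) (u : U) [AlgebraicGeometry.IsIntegral (f.fiber u)] :
    mult f (f.fiberι u (genericPoint (f.fiber u))) = 1 := by
  rw [← length_stalk_fiber]
  letI : Field ((f.fiber u).presheaf.stalk (genericPoint (f.fiber u))) :=
    inferInstanceAs (Field (f.fiber u).functionField)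
  rw [Module.length_eq_one_iff]
  infer_instance

/-- A fibre of multiplicity one over a point with principal maximal ideal has codimension one. -/
theorem krullDimLE_of_mult_eq_one {W U : Scheme.{u}} (f : W ⟶ U) [IsLocallyNoetherian W]
    [AlgebraicGeometry.IsIntegral W] (v : W) [IsPrincipalIdealRing (U.presheaf.stalk (f v))]
    (hm : mult f v = 1) : Ring.KrullDimLE 1 (W.presheaf.stalk v) := by
  haveI : IsDomain (W.presheaf.stalk v) := (specMap_injective v (genericPoint_specializes' v)).isDomain
  have h1 : (fibIdeal f v).IsMaximal := by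
    have h2 : IsSimpleModule (W.presheaf.stalk v) (W.presheaf.stalk v ⧸ fibIdeal f v) :=
      Module.length_eq_one_iff.1 hm
    exact Ideal.isMaximal_def.2 (isSimpleModule_iff_isCoatom.1 h2)
  obtain ⟨π, hπ⟩ := (IsPrincipalIdealRing.principal (IsLocalRing.maximalIdeal (U.presheaf.stalk (f v)))).principal
  have hP : (IsLocalRing.maximalIdeal (W.presheaf.stalk v)).IsPrincipal := by
    rw [← IsLocalRing.eq_maximalIdeal h1]
    refine ⟨(f.stalkMap v).hom π, ?_⟩
    show fibIdeal f v = Submodule.span _ _
    rw [fibIdeal, hπ, Ideal.submodule_span_eq, Ideal.map_span, Set.image_singleton, Ideal.submodule_span_eq]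
  haveI : IsPrincipalIdealRing (W.presheaf.stalk v) :=
    ((tfae_of_isNoetherianRing_of_isLocalRing_of_isDomain (W.presheaf.stalk v)).out 4 0).1 hP
  infer_instance

/-- A principal divisor with two terms. -/
theorem ratEquiv_of_divFun {P : Scheme.{u}} {δ : P → ℤ} {d : ℤ} (ξ : P) (g : P.residueField ξ) (hξ : δ ξ = d + 1)
    (hg : g ≠ 0) (a b : P) (h : ∀ v, Cyc.divFun δ ξ g v = (if v = a then 1 else 0) - (if v = b then 1 else 0)) :
    Cyc.RatEquiv δ d (Function.locallyFinsuppWithin.single a (1 : ℤ) : AlgebraicCycle P ℤ)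
      (Function.locallyFinsuppWithin.single b (1 : ℤ)) := by
  refine ⟨PUnit, fun _ => ξ, fun _ => g, fun _ => hξ, fun _ => hg,
    fun x => ⟨Set.univ, isOpen_univ, trivial, Set.toFinite _⟩, fun v => ?_⟩
  rw [finsum_unique, h v, Function.locallyFinsuppWithin.coe_sub, Pi.sub_apply,
    Function.locallyFinsuppWithin.single_apply, Function.locallyFinsuppWithin.single_apply]

/-- Push-forward of a point mapping isomorphically. -/
theorem map_single {P X : Scheme.{u}} (p : P ⟶ X) [IsProper p] {δP : P → ℤ} {δ : X → ℤ} (v : P)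
    (hv : δP v = δ (p v)) (hd : p.residueDegree v = 1) :
    AlgebraicCycle.map p δP δ (Function.locallyFinsuppWithin.single v (1 : ℤ)) =
      Function.locallyFinsuppWithin.single (p v) (1 : ℤ) := by
  refine Function.locallyFinsuppWithin.ext fun x => ?_
  show (∑ᶠ y ∈ p ⁻¹' {x}, (Function.locallyFinsuppWithin.single v (1 : ℤ) : AlgebraicCycle P ℤ) y *
    ((AlgebraicCycle.mapCoeff p δP δ y : ℕ) : ℤ)) = _
  have hc : AlgebraicCycle.mapCoeff p δP δ v = 1 := (if_pos hv).trans hd
  rw [Function.locallyFinsuppWithin.single_apply]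
  split_ifs with hx
  · rw [finsum_mem_eq_sum_of_inter_support_eq _ (t := {v}), Finset.sum_singleton, hc,
      Function.locallyFinsuppWithin.single_apply, if_pos rfl]
    · norm_num
    · ext y
      simp only [Set.mem_inter_iff, Set.mem_preimage, Set.mem_singleton_iff, Function.mem_support, Finset.coe_singleton,
        Function.locallyFinsuppWithin.single_apply]
      refine ⟨fun ⟨_, hy⟩ => ⟨?_, hy⟩, fun ⟨hy, hne⟩ => ⟨?_, hne⟩⟩
      · by_contra hh
        exact hy (by rw [if_neg hh, zero_mul])
      · rw [hy]; exact hx.symm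
  · refine finsum_mem_eq_zero_of_forall_eq_zero fun y hy => ?_
    rw [Function.locallyFinsuppWithin.single_apply, if_neg, zero_mul]
    rintro rfl
    exact hx hy.symm

/-- A function without zero or pole at a point of a curve is a unit there. -/
theorem exists_unit_of_ordAt_eq_zero {C : Scheme.{u}} [IsLocallyNoetherian C] [AlgebraicGeometry.IsIntegral C]
    {δ : C → ℤ} (hδ : Cyc.IsDimFun C δ) (w : C) {η : C} (hη : η = genericPoint C) (h : η ⤳ w) (hw : δ w + 1 = δ η)
    [IsPrincipalIdealRing (C.presheaf.stalk w)] (g : C.residueField η) (hg : g ≠ 0) (h0 : Cyc.ordAt w η h g = 0) :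
    ∃ a : C.presheaf.stalk w, IsUnit a ∧ g = Cyc.specMap w η h a := by
  subst hη
  haveI : IsDomain (C.presheaf.stalk w) := (specMap_injective w h).isDomain
  haveI := krullDimLE_one_stalk hδ w hw
  obtain ⟨a, b, ha, hb, rfl⟩ := exists_specMap_div' w rfl h g hg
  rw [ordAt_div' w rfl h ha hb] at h0
  have fin : ∀ c : C.presheaf.stalk w, c ≠ 0 → Ring.ord _ c ≠ ⊤ := fun c hc =>
    Ring.ord_ne_top (mem_nonZeroDivisors_of_ne_zero hc)
  have e : Ring.ord _ a = Ring.ord _ b := by
    rw [← ENat.coe_toNat (fin a ha), ← ENat.coe_toNat (fin b hb)]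
    exact_mod_cast sub_eq_zero.1 h0
  have hunit : ∀ c d : C.presheaf.stalk w, c ≠ 0 → c ∣ d → Ring.ord _ c = Ring.ord _ d → Associated c d := by
    rintro c d hc ⟨t, rfl⟩ hcd
    refine associated_mul_unit_right c t ?_
    rw [mul_comm c t, Ring.ord_mul _ (mem_nonZeroDivisors_of_ne_zero hc)] at hcd
    · have h2 : Ring.ord _ t = 0 := by
        have := fin c hc
        revert hcd
        generalize Ring.ord (C.presheaf.stalk w) t = m
        generalize hn : Ring.ord (C.presheaf.stalk w) c = n at this
        intro hcd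
        cases n with
        | top => exact absurd rfl this
        | coe n => cases m with
          | top => simp at hcd
          | coe m => norm_cast at hcd ⊢; omega
      rw [Ring.ord, Module.length_eq_zero_iff, Submodule.Quotient.subsingleton_iff] at h2
      exact Ideal.span_singleton_eq_top.1 h2
  have hab : Associated b a := by
    rcases ValuationRing.dvd_total b a with hd | hd
    · exact hunit b a hb hd e.symm
    · exact (hunit a b ha hd e).symm
  obtain ⟨t, rfl⟩ := hab
  refine ⟨t, t.isUnit, ?_⟩
  rw [map_mul, mul_div_assoc, mul_div_cancel₀]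
  exact (map_ne_zero_iff _ (specMap_injective' w rfl h)).2 hb

variable {k : Type u} [Field k] [IsAlgClosed k] {X Y U : Scheme.{u}} (sx : X ⟶ Spec (CommRingCat.of k))
  [LocallyOfFiniteType sx] [QuasiCompact sx] [IsSeparated sx]

set_option maxHeartbeats 3200000 in
/-- The members of the family at two rational parameters are rationally equivalent. -/
theorem ratEquiv_family {δ : X → ℤ} (hδ : Cyc.DeltaCompat sx δ fun _ => 0)
    (sy : Y ⟶ Spec (CommRingCat.of k)) [LocallyOfFiniteType sy] [IsSeparated sy] [Flat sy]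
    [GeometricallyIntegral sy] [AlgebraicGeometry.IsIntegral Y] [AlgebraicGeometry.IsIntegral U]
    (j : U ⟶ PL k) [IsOpenImmersion j] (su : U ⟶ Spec (CommRingCat.of k)) (hsu : j ≫ str k = su)
    [AlgebraicGeometry.IsIntegral (pullback sy su)]
    (F : pullback sy su ⟶ pullback sx (str k)) [IsPreimmersion F]
    (hF : F ≫ pullback.snd sx (str k) = pullback.snd sy su ≫ j)
    (hFs : F ≫ pullback.fst sx (str k) ≫ sx = pullback.fst sy su ≫ sy)
    (hcl : closure (Set.range F) ∩ (pullback.snd sx (str k) ⁻¹' Set.range j) ⊆ Set.range F)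
    (t₀ t₁ : Spec (CommRingCat.of k) ⟶ U) (h₀ : t₀ ≫ su = 𝟙 _) (h₁ : t₁ ≫ su = 𝟙 _)
    (d : ℤ) (x₀ x₁ : X)
    (e₀ : pullback.fst sx (str k) (F (AlgEqCyc.slice sy su t₀ h₀ (genericPoint Y))) = x₀)
    (e₁ : pullback.fst sx (str k) (F (AlgEqCyc.slice sy su t₁ h₁ (genericPoint Y))) = x₁)
    (hd₀ : δ x₀ = d) (hd₁ : δ x₁ = d) :
    Cyc.RatEquiv δ d (Function.locallyFinsuppWithin.single x₀ (1 : ℤ) : AlgebraicCycle X ℤ)
      (Function.locallyFinsuppWithin.single x₁ (1 : ℤ)) := by
  haveI : IsProper (str k) := Groth.L16.ProjSpace.isProper_toSpec 1 k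
  haveI : LocallyOfFiniteType (str k) := inferInstance
  haveI : LocallyOfFiniteType su := hsu ▸ inferInstance
  haveI : IsSeparated su := hsu ▸ inferInstance
  let q := pullback.snd sx (str k)
  let p := pullback.fst sx (str k)
  let f := pullback.snd sy su
  haveI : IsLocallyNoetherian X := LocallyOfFiniteType.isLocallyNoetherian sx
  haveI : IsLocallyNoetherian (pullback sx (str k)) := LocallyOfFiniteType.isLocallyNoetherian (pullback.fst sx (str k) ≫ sx)
  haveI : IsLocallyNoetherian (pullback sy su) := LocallyOfFiniteType.isLocallyNoetherian (pullback.fst sy su ≫ sy)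
  haveI : IsLocallyNoetherian U := LocallyOfFiniteType.isLocallyNoetherian su
  haveI : IsLocallyNoetherian (PL k) := LocallyOfFiniteType.isLocallyNoetherian (str k)
  obtain ⟨δP, hδP⟩ := exists_delta (pullback.fst sx (str k) ≫ sx)
  have hdP := isDimFun_of_field (pullback.fst sx (str k) ≫ sx) hδP
  have hdX := isDimFun_of_field sx hδ
  have hδW : Cyc.DeltaCompat (pullback.fst sy su ≫ sy) (fun w => δP (F w)) (fun _ => 0) := by
    rw [← hFs]
    exact Groth.L22.Bundle.deltaCompat_comp F _ hδP
  have hdW := isDimFun_of_field (pullback.fst sy su ≫ sy) hδW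
  obtain ⟨δL, hδL, hL1⟩ := Line.exists_delta_line k
  have hdL := isDimFun_of_field (str k) hδL
  have hδU : Cyc.DeltaCompat su (fun c => δL (j c)) (fun _ => 0) :=
    hsu ▸ Groth.L22.Bundle.deltaCompat_comp j _ hδL
  have hdU := isDimFun_of_field su hδU
  have hjη : j (genericPoint U) = genericPoint (PL k) := genericPoint_eq_of_isOpenImmersion j
  have hUcl : ∀ c : U, c ≠ genericPoint U → IsClosed ({j c} : Set (PL k)) := fun c hc => by
    by_contra h
    exact hc (j.isOpenEmbedding.injective ((Line.eq_genericPoint_of_not_isClosed k h).trans hjη.symm))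
  have hLd : ∀ w : PL k, IsClosed ({w} : Set (PL k)) → δL w + 1 = δL (genericPoint (PL k)) := fun w hw => by
    rw [hL1, (delta_eq_zero_iff (str k) hδL w).2 hw]; norm_num
  haveI hPIDU : ∀ c : U, IsPrincipalIdealRing (U.presheaf.stalk c) := fun c => by
    haveI := Line.isPrincipalIdealRing_stalk k (j c)
    exact IsPrincipalIdealRing.of_surjective (j.stalkMap c).hom
      (ConcreteCategory.bijective_of_isIso (j.stalkMap c)).2
  have hfη : f (genericPoint ↥(pullback sy su)) = genericPoint U := by
    haveI : Surjective f := inferInstance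
    exact ((genericPoint_spec ↥(pullback sy su)).image f.continuous).eq (by
      rw [Set.image_univ, f.surjective.range_eq, closure_univ]; exact genericPoint_spec U)
  -- the slices
  have hfib : ∀ (t : Spec (CommRingCat.of k) ⟶ U) (ht : t ≫ su = 𝟙 _) (c : ↥(pullback sy su)),
      f c = t (IsLocalRing.closedPoint k) →
      AlgEqCyc.slice sy su t ht (genericPoint Y) ⤳ c := by
    intro t ht c hc
    let S := AlgEqCyc.slice sy su t ht
    haveI : IsClosedImmersion (S ≫ pullback.fst sy su) := by
      simp only [S, AlgEqCyc.slice, pullback.lift_fst]; infer_instance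
    haveI : IsClosedImmersion S := IsClosedImmersion.of_comp S (pullback.fst sy su)
    haveI : JacobsonSpace ↥(pullback sy su) := LocallyOfFiniteType.jacobsonSpace (pullback.fst sy su ≫ sy)
    let Zf : Set ↥(pullback sy su) := f ⁻¹' {t (IsLocalRing.closedPoint k)}
    have hZ : IsClosed Zf := (mem_closedPoints_iff.1 ((pointEquivClosedPoint su) ⟨t, ht⟩).2).preimage f.continuous
    have hsub : Zf ∩ closedPoints ↥(pullback sy su) ⊆ Set.range S := by
      rintro v ⟨hv, hvc⟩
      haveI : LocallyOfFiniteType (pullback.fst sy su ≫ sy) := inferInstance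
      have hyc : IsClosed ({pullback.fst sy su v} : Set Y) := by
        let a := pointOfClosedPoint (pullback.fst sy su ≫ sy) v (mem_closedPoints_iff.1 hvc)
        have ha : (a ≫ pullback.fst sy su) ≫ sy = 𝟙 _ := by
          rw [Category.assoc]; exact pointOfClosedPoint_comp _ _ _
        have hA := mem_closedPoints_iff.1 ((pointEquivClosedPoint sy) ⟨_, ha⟩).2
        rwa [show ((pointEquivClosedPoint sy) ⟨_, ha⟩).1 = pullback.fst sy su v from
          congrArg (pullback.fst sy su) (pointOfClosedPoint_apply _ _ _ _)] at hA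
      exact ⟨pullback.fst sy su v, closed_ext sy su (isClosed_slice sy su t ht hyc) (mem_closedPoints_iff.1 hvc)
        (fst_slice sy su t ht _) ((snd_slice sy su t ht _).trans hv.symm)⟩
    have hc' : c ∈ Set.range S := by
      have h1 : closure (Zf ∩ closedPoints ↥(pullback sy su)) ⊆ Set.range S :=
        closure_minimal hsub S.isClosedEmbedding.isClosed_range
      rw [closure_inter_closedPoints hZ] at h1
      exact h1 hc
    obtain ⟨y, rfl⟩ := hc'
    exact (genericPoint_specializes' y).map S.continuous
  have hmult : ∀ (t : Spec (CommRingCat.of k) ⟶ U) (ht : t ≫ su = 𝟙 _),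
      mult f (AlgEqCyc.slice sy su t ht (genericPoint Y)) = 1 := by
    intro t ht
    let u := t (IsLocalRing.closedPoint k)
    haveI : AlgebraicGeometry.IsIntegral (f.fiber u) := inferInstance
    let z := f.fiberι u (genericPoint (f.fiber u))
    have hz : f z = u := fromSpec_fiber_apply f u _
    obtain ⟨z', hz'⟩ := (Scheme.Hom.range_fiberι f u).ge
      (show AlgEqCyc.slice sy su t ht (genericPoint Y) ∈ f ⁻¹' {u} from snd_slice sy su t ht _)
    have h1 : z ⤳ AlgEqCyc.slice sy su t ht (genericPoint Y) :=
      hz' ▸ (genericPoint_specializes' z').map (f.fiberι u).continuous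
    rw [← (h1.antisymm (hfib t ht z hz)).eq]
    exact mult_eq_one_of_fiber f u
  have hv : ∀ (t : Spec (CommRingCat.of k) ⟶ U) (ht : t ≫ su = 𝟙 _) (x : X),
      p (F (AlgEqCyc.slice sy su t ht (genericPoint Y))) = x →
      δP (F (AlgEqCyc.slice sy su t ht (genericPoint Y))) = δ x ∧
      p.residueDegree (F (AlgEqCyc.slice sy su t ht (genericPoint Y))) = 1 := by
    intro t ht x hx
    have ht' : (t ≫ j) ≫ str k = 𝟙 _ := by rw [Category.assoc, hsu]; exact ht
    let S := AlgEqCyc.slice sx (str k) (t ≫ j) ht'
    have hS : AlgEqCyc.slice sy su t ht ≫ F = (AlgEqCyc.slice sy su t ht ≫ F ≫ p) ≫ S := by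
      apply pullback.hom_ext
      · simp only [S, p, AlgEqCyc.slice, Category.assoc, pullback.lift_fst, Category.comp_id]
      · simp only [S, p, AlgEqCyc.slice, Category.assoc, pullback.lift_snd, hF, pullback.lift_snd_assoc]
        rw [reassoc_of% hFs, pullback.lift_fst_assoc, Category.id_comp]
    have hw : F (AlgEqCyc.slice sy su t ht (genericPoint Y)) = S x := by
      have := congrArg (fun φ : Y ⟶ pullback sx (str k) => φ (genericPoint Y)) hS
      simp only [Scheme.Hom.comp_apply] at this
      exact this.trans (congrArg S hx)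
    rw [hw]
    have hSp : S ≫ p = 𝟙 _ := pullback.lift_fst _ _ _
    haveI : IsClosedImmersion (S ≫ pullback.fst sx (str k)) := by rw [hSp]; infer_instance
    haveI : IsClosedImmersion S := IsClosedImmersion.of_comp S (pullback.fst sx (str k))
    refine ⟨?_, ?_⟩
    · have h1 := Groth.L22.Bundle.deltaCompat_comp S _ hδP
      rw [← Category.assoc, hSp, Category.id_comp] at h1
      obtain ⟨n, hn, hdn⟩ := h1 x
      obtain ⟨n', hn', hdn'⟩ := hδ x
      have hnn : n = n' := by exact_mod_cast hn.symm.trans hn'
      exact hdn.trans (hnn ▸ hdn'.symm)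
    · have h1 := residueDegree_congr _ hSp x
      rw [residueDegree_comp, Scheme.Hom.residueDegree_id] at h1
      exact Nat.eq_one_of_mul_eq_one_right h1
  set v₀ := AlgEqCyc.slice sy su t₀ h₀ (genericPoint Y) with hv₀
  set v₁ := AlgEqCyc.slice sy su t₁ h₁ (genericPoint Y) with hv₁
  obtain ⟨hδ₀, hr₀⟩ := hv t₀ h₀ x₀ e₀
  obtain ⟨hδ₁, hr₁⟩ := hv t₁ h₁ x₁ e₁
  rw [hd₀] at hδ₀
  rw [hd₁] at hδ₁
  -- the dimension of the total family
  have hfv₀ : f v₀ = t₀ (IsLocalRing.closedPoint k) := snd_slice sy su t₀ h₀ _
  have hne₀ : v₀ ≠ genericPoint ↥(pullback sy su) := fun h => Line.not_isClosed_genericPoint k <| by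
    have hcu := ((pointEquivClosedPoint (str k)) ⟨t₀ ≫ j, by rw [Category.assoc, hsu]; exact h₀⟩).2
    rw [← hjη, ← hfη, ← h, hfv₀]
    exact mem_closedPoints_iff.1 hcu
  have hξ : δP (F (genericPoint ↥(pullback sy su))) = d + 1 := by
    haveI := hPIDU (f v₀)
    haveI := krullDimLE_of_mult_eq_one f v₀ (hmult t₀ h₀)
    haveI : IsDomain ((pullback sy su).presheaf.stalk v₀) := (specMap_injective v₀ (genericPoint_specializes' v₀)).isDomain
    have himm : ∀ z : ↥(pullback sy su), genericPoint ↥(pullback sy su) ⤳ z → z ⤳ v₀ → z = genericPoint ↥(pullback sy su) ∨ z = v₀ := by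
      intro z _ hz
      obtain ⟨𝔭, h𝔭⟩ := exists_prime_of_specializes hz
      by_cases hb : 𝔭.asIdeal = ⊥
      · left
        rw [← h𝔭]
        refine Specializes.antisymm ?_ (genericPoint_specializes' _) |>.eq
        obtain ⟨𝔮, h𝔮⟩ := exists_prime_of_specializes (genericPoint_specializes' v₀)
        rw [← h𝔮]
        exact ((PrimeSpectrum.le_iff_specializes 𝔭 𝔮).1 (hb.trans_le bot_le)).map ((pullback sy su).fromSpecStalk v₀).continuous
      · right
        have hm := Ring.krullDimLE_one_iff_of_isPrime_bot.1 inferInstance 𝔭.asIdeal hb 𝔭.isPrime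
        rw [← h𝔭, show 𝔭 = IsLocalRing.closedPoint ((pullback sy su).presheaf.stalk v₀) from
          PrimeSpectrum.ext (IsLocalRing.eq_maximalIdeal hm), Scheme.fromSpecStalk_closedPoint]
    have := (hdW (genericPoint ↥(pullback sy su)) v₀ (genericPoint_specializes' v₀) (Ne.symm hne₀)).2 himm
    simp only [v₀] at this
    omega
  have hqξ : q (F (genericPoint ↥(pullback sy su))) = genericPoint (PL k) := by
    rw [← hjη, ← hfη, ← Scheme.Hom.comp_apply, hF]; rfl
  have h₀' : (t₀ ≫ j) ≫ str k = 𝟙 _ := by rw [Category.assoc, hsu]; exact h₀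
  have h₁' : (t₁ ≫ j) ≫ str k = 𝟙 _ := by rw [Category.assoc, hsu]; exact h₁
  obtain ⟨g, hg, hord⟩ := Line.exists_divisor' k (t₀ ≫ j) (t₁ ≫ j) h₀' h₁' hqξ
  have hinside : ∀ (w : ↥(pullback sy su)), δP (F w) = d → ∀ (h : F (genericPoint ↥(pullback sy su)) ⤳ F w),
      Cyc.ordAt (F w) (F (genericPoint ↥(pullback sy su))) h (q.residueFieldMap (F (genericPoint ↥(pullback sy su))) g) =
        (if w = v₀ then 1 else 0) - (if w = v₁ then 1 else 0) := by
    intro w hw hsp
    have hspW : genericPoint ↥(pullback sy su) ⤳ w := genericPoint_specializes' w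
    have hwd : δP (F w) + 1 = δP (F (genericPoint ↥(pullback sy su))) := by rw [hw, hξ]
    haveI : Ring.KrullDimLE 1 ((pullback sy su).presheaf.stalk w) := krullDimLE_one_stalk hdW w hwd
    rw [← ordAt_preimmersion F hdP hdW hspW hwd _ ((map_ne_zero _).2 hg)]
    have gen : ∀ (φ : pullback sy su ⟶ PL k), φ = f ≫ j → ∀ (g : (PL k).residueField (φ (genericPoint ↥(pullback sy su)))), g ≠ 0 →
        (∀ c : PL k, IsClosed ({c} : Set (PL k)) → ∀ h : φ (genericPoint ↥(pullback sy su)) ⤳ c,
          Cyc.ordAt c (φ (genericPoint ↥(pullback sy su))) h g = (if c = (t₀ ≫ j) (IsLocalRing.closedPoint k) then 1 else 0) -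
            (if c = (t₁ ≫ j) (IsLocalRing.closedPoint k) then 1 else 0)) →
        Cyc.ordAt w (genericPoint ↥(pullback sy su)) hspW (φ.residueFieldMap (genericPoint ↥(pullback sy su)) g) =
          (if w = v₀ then 1 else 0) - (if w = v₁ then 1 else 0) := by
      rintro φ rfl g hg hord
      rw [Scheme.residueFieldMap_comp]
      show Cyc.ordAt w (genericPoint ↥(pullback sy su)) hspW
        (f.residueFieldMap (genericPoint ↥(pullback sy su)) (j.residueFieldMap (f (genericPoint ↥(pullback sy su))) g)) = _
      have hne : ∀ t, f w = genericPoint U → ∀ (ht : t ≫ su = 𝟙 _),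
          w ≠ AlgEqCyc.slice sy su t ht (genericPoint Y) := by
        intro t hfw ht h
        refine Line.not_isClosed_genericPoint k ?_
        rw [← hjη, ← hfw, h, snd_slice]
        exact mem_closedPoints_iff.1
          ((pointEquivClosedPoint (str k)) ⟨t ≫ j, by rw [Category.assoc, hsu]; exact ht⟩).2
      by_cases hu : f w = genericPoint U
      · rw [ordAt_pullback_of_generic f w hspW hu hfη (hspW.map f.continuous) _ ((map_ne_zero (j.residueFieldMap (f (genericPoint ↥(pullback sy su)))).hom).2 hg),
          if_neg (hne t₀ hu h₀), if_neg (hne t₁ hu h₁), sub_zero]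
      · have hc := hUcl _ hu
        have hUd : δL (j (f w)) + 1 = δL (j (genericPoint U)) := by rw [hjη]; exact hLd _ hc
        have hUd' : δL (j (f w)) + 1 = δL (j (f (genericPoint ↥(pullback sy su)))) := by rw [hfη]; exact hUd
        haveI : Ring.KrullDimLE 1 (U.presheaf.stalk (f w)) := krullDimLE_one_stalk hdU (f w) hUd
        have hfg : FibGen f w := fun y hy hyw => by
          by_contra hne'
          have hyη : genericPoint ↥(pullback sy su) ≠ y := fun e => hu (by rw [← hy, ← e, hfη])
          have h1 := (hdW _ _ (genericPoint_specializes' y) hyη).1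
          have h2 := (hdW _ _ hyw hne').1
          simp only at h1 h2
          omega
        haveI : Flat f := inferInstance
        rw [← ordAt_pullback f w hspW hfη (hspW.map f.continuous) hfg _ ((map_ne_zero (j.residueFieldMap (f (genericPoint ↥(pullback sy su)))).hom).2 hg),
          ordAt_preimmersion j hdL hdU (hspW.map f.continuous) hUd' g hg]
        rw [show Cyc.ordAt (j (f w)) (j (f (genericPoint ↥(pullback sy su)))) _ g = _ from hord (j (f w)) hc _]
        have hiff : ∀ (t : Spec (CommRingCat.of k) ⟶ U) (ht : t ≫ su = 𝟙 _),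
            δP (F (AlgEqCyc.slice sy su t ht (genericPoint Y))) = d →
            (j (f w) = (t ≫ j) (IsLocalRing.closedPoint k) ↔ w = AlgEqCyc.slice sy su t ht (genericPoint Y)) := by
          intro t ht htd
          rw [Scheme.Hom.comp_apply]
          refine ⟨fun h => ?_, fun h => by rw [h, snd_slice]⟩
          have h1 := hfib t ht w (j.isOpenEmbedding.injective h)
          by_contra hne'
          have h2 := (hdW _ _ h1 (Ne.symm hne')).1
          simp only at h2
          omega
        have hm : (w = v₀ ∨ w = v₁) → (mult f w).toNat = 1 := by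
          rintro (rfl | rfl)
          · rw [hmult t₀ h₀]; rfl
          · rw [hmult t₁ h₁]; rfl
        simp only [hiff t₀ h₀ hδ₀, hiff t₁ h₁ hδ₁]
        change ((if w = v₀ then 1 else 0) - (if w = v₁ then 1 else 0)) * _ = _
        split_ifs with a b b
        · simp
        · rw [hm (Or.inl a)]; simp
        · rw [hm (Or.inr b)]; simp
        · simp
    have hcomp := gen (F ≫ q) hF g hg hord
    rw [Scheme.residueFieldMap_comp] at hcomp
    exact hcomp
  have hdiv : ∀ v : ↥(pullback sx (str k)), Cyc.divFun δP (F (genericPoint ↥(pullback sy su))) (q.residueFieldMap (F (genericPoint ↥(pullback sy su))) g) v =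
      (if v = F v₀ then 1 else 0) - (if v = F v₁ then 1 else 0) := by
    intro v
    have hout' : ∀ (t : Spec (CommRingCat.of k) ⟶ U) (ht : t ≫ su = 𝟙 _),
        q (F (AlgEqCyc.slice sy su t ht (genericPoint Y))) ∈ Set.range j := fun t ht =>
      ⟨f (AlgEqCyc.slice sy su t ht (genericPoint Y)),
        (congrArg (fun φ : pullback sy su ⟶ PL k => φ (AlgEqCyc.slice sy su t ht (genericPoint Y))) hF).symm⟩
    rw [Cyc.divFun]
    by_cases h : F (genericPoint ↥(pullback sy su)) ⤳ v ∧ δP v + 1 = δP (F (genericPoint ↥(pullback sy su)))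
    swap
    · rw [dif_neg h, if_neg, if_neg, sub_zero]
      · rintro rfl
        exact h ⟨(genericPoint_specializes' _).map F.continuous, by rw [hδ₁, hξ]⟩
      · rintro rfl
        exact h ⟨(genericPoint_specializes' _).map F.continuous, by rw [hδ₀, hξ]⟩
    · rw [dif_pos h]
      have hvd : δP v = d := by have := h.2; rw [hξ] at this; omega
      by_cases hin : q v ∈ Set.range j
      · obtain ⟨w, rfl⟩ : v ∈ Set.range F := hcl ⟨closure_mono (Set.singleton_subset_iff.2 (Set.mem_range_self _))
          (specializes_iff_mem_closure.1 h.1), hin⟩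
        rw [hinside w hvd h.1]
        have hinj : Function.Injective F := (Scheme.Hom.isEmbedding F).injective
        simp only [hinj.eq_iff]
      · have hout : ∀ (t : Spec (CommRingCat.of k) ⟶ U), q v ≠ (t ≫ j) (IsLocalRing.closedPoint k) := fun t e =>
          hin ⟨t (IsLocalRing.closedPoint k), by rw [e, Scheme.Hom.comp_apply]⟩
        have hvc : IsClosed ({q v} : Set (PL k)) := by
          by_contra hh
          exact hin ⟨genericPoint U, by rw [hjη, Line.eq_genericPoint_of_not_isClosed k hh]⟩
        haveI := Line.isPrincipalIdealRing_stalk k (q v)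
        obtain ⟨a, ha, hga⟩ := exists_unit_of_ordAt_eq_zero hdL (q v) hqξ (h.1.map q.continuous)
          (by rw [hqξ]; exact hLd _ hvc) g hg
          (by rw [hord (q v) hvc, if_neg (hout t₀), if_neg (hout t₁), sub_zero])
        rw [hga, residueFieldMap_specMap q h.1 (h.1.map q.continuous) a,
          ordAt_of_isUnit hdP v _ h.1 h.2 (ha.map _)]
        rw [if_neg (fun e => hin (by rw [e]; exact hout' t₀ h₀)), if_neg (fun e => hin (by rw [e]; exact hout' t₁ h₁)), sub_zero]
  have hc : Cyc.DeltaCompat p δP δ := Groth.L22.Bundle.deltaCompat_cancel _ _ hδP hδ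
  have := Groth.L22.Cyc.ratEquiv_map p hdP hdX hc d _ _
    (ratEquiv_of_divFun (F (genericPoint ↥(pullback sy su))) _ hξ ((map_ne_zero _).2 hg) (F v₀) (F v₁) hdiv)
  rwa [map_single p (F v₀) (hδ₀.trans (hd₀.symm.trans (congrArg δ e₀.symm))) hr₀,
    map_single p (F v₁) (hδ₁.trans (hd₁.symm.trans (congrArg δ e₁.symm))) hr₁,
    show p (F v₀) = x₀ from e₀, show p (F v₁) = x₁ from e₁] at this

end Groth.L22.Translate
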