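import Groth.Agent.L22.Translate.Family
import Groth.Agent.L08.Cube.SliceFibre
import Groth.Agent.L26.AV.Hom
import Groth.Agent.L26.AV.SmoothField
import Groth.Prelude.Def_AlgGrp
import Mathlib.AlgebraicGeometry.AffineSpace

/-!
A connected rational group acts trivially on cycles modulo rational equivalence.
-/

set_option autoImplicit false
set_option linter.style.haveILetI false
set_option backward.isDefEq.respectTransparency false
set_option backward.isDefEq.respectTransparency.types false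

universe u

open AlgebraicGeometry CategoryTheory CategoryTheory.Limits MonoidalCategory CartesianMonoidalCategory MonObj GrpObj
open Groth.L22.Cyc Groth.L22.SymCorr Polynomial
open scoped Classical MonObj

noncomputable section

namespace Groth.L22.Translate

open Line (PL str)

variable {k : Type u} [Field k] [IsAlgClosed k]
variable {G X : Over (Spec (CommRingCat.of k))} [GrpObj G] (act : AlgGrp.Action G X)

/-- Translation by a rational point. -/
def tr (a : 𝟙_ (Over (Spec (CommRingCat.of k))) ⟶ G) : X ⟶ X := lift (toUnit X ≫ a) (𝟙 X) ≫ act.act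

theorem act_mul {T : Over (Spec (CommRingCat.of k))} (g h : T ⟶ G) (x : T ⟶ X) :
    lift g (lift h x ≫ act.act) ≫ act.act = lift (g * h) x ≫ act.act := by
  have h1 := congrArg (fun φ => lift (lift g h) x ≫ φ) act.mul_act
  simp only [lift_whiskerRight_assoc] at h1
  rw [Hom.mul_def, h1]
  simp

theorem act_one {T : Over (Spec (CommRingCat.of k))} (x : T ⟶ X) :
    lift (1 : T ⟶ G) x ≫ act.act = x := by
  have h1 := congrArg (fun φ => lift (toUnit T) x ≫ φ) act.one_act
  simp only [lift_whiskerRight_assoc] at h1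
  rw [Hom.one_def, h1]
  simp

theorem tr_comp (a b : 𝟙_ (Over (Spec (CommRingCat.of k))) ⟶ G) : tr act b ≫ tr act a = tr act (a * b) := by
  simp only [tr, Category.assoc, comp_lift_assoc, Category.comp_id, comp_toUnit_assoc]
  rw [act_mul, ← MonObj.comp_mul]

theorem tr_one : tr act 1 = 𝟙 X := by
  simp only [tr, MonObj.comp_one, act_one]

instance isIso_tr (a : 𝟙_ (Over (Spec (CommRingCat.of k))) ⟶ G) : IsIso (tr act a) :=
  ⟨tr act a⁻¹, by rw [tr_comp, inv_mul_cancel, tr_one], by rw [tr_comp, mul_inv_cancel, tr_one]⟩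

instance isIso_tr_left (a : 𝟙_ (Over (Spec (CommRingCat.of k))) ⟶ G) : IsIso (tr act a).left :=
  inferInstanceAs (IsIso ((Over.forget _).map (tr act a)))

theorem delta_tr {δ : X.left → ℤ} (hδ : Cyc.DeltaCompat X.hom δ fun _ => 0)
    (a : 𝟙_ (Over (Spec (CommRingCat.of k))) ⟶ G) (x : X.left) : δ ((tr act a).left x) = δ x := by
  have h1 := Groth.L22.Bundle.deltaCompat_comp (tr act a).left _ hδ
  rw [Over.w] at h1
  obtain ⟨n, hn, hd⟩ := h1 x
  obtain ⟨m, hm, hd'⟩ := hδ x
  have hnm : n = m := by exact_mod_cast hn.symm.trans hm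
  exact hd.trans (hnm ▸ hd'.symm)

set_option maxHeartbeats 1600000 in
/-- Translations by two values of a curve in the group give equivalent cycles. -/
theorem ratEquiv_of_curve [AlgebraicGeometry.IsIntegral X.left] [LocallyOfFiniteType X.hom] [QuasiCompact X.hom]
    [IsSeparated X.hom] {δ : X.left → ℤ} (hδ : Cyc.DeltaCompat X.hom δ fun _ => 0) (ξ : X.left)
    {U : Scheme.{u}} [AlgebraicGeometry.IsIntegral U] (j : U ⟶ PL k) [IsOpenImmersion j]
    (su : U ⟶ Spec (CommRingCat.of k)) (hsu : j ≫ str k = su)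
    (γ : U ⟶ G.left) (hγ : γ ≫ G.hom = su)
    (t₀ t₁ : Spec (CommRingCat.of k) ⟶ U) (h₀ : t₀ ≫ su = 𝟙 _) (h₁ : t₁ ≫ su = 𝟙 _)
    (a b : 𝟙_ (Over (Spec (CommRingCat.of k))) ⟶ G) (ha : t₀ ≫ γ = a.left) (hb : t₁ ≫ γ = b.left) :
    Cyc.RatEquiv δ (δ ξ) (Function.locallyFinsuppWithin.single ((tr act a).left ξ) (1 : ℤ) : AlgebraicCycle X.left ℤ)
      (Function.locallyFinsuppWithin.single ((tr act b).left ξ) (1 : ℤ)) := by
  haveI : IsLocallyNoetherian X.left := LocallyOfFiniteType.isLocallyNoetherian X.hom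
  haveI : IsProper (str k) := Groth.L16.ProjSpace.isProper_toSpec 1 k
  haveI : LocallyOfFiniteType su := hsu ▸ inferInstance
  let iY : clSub ξ ⟶ X.left := clι ξ
  let sy := iY ≫ X.hom
  haveI : Flat sy := inferInstance
  haveI : GeometricallyIntegral sy := Groth.L08.Cube.geometricallyIntegral_of_isAlgClosed sy
  haveI : IsLocallyNoetherian (Spec (CommRingCat.of k)) := inferInstance
  haveI : UniversallyOpen sy := inferInstance
  haveI : IsLocallyNoetherian U := LocallyOfFiniteType.isLocallyNoetherian su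
  haveI : AlgebraicGeometry.IsIntegral (pullback sy su) := inferInstance
  let Uo : Over (Spec (CommRingCat.of k)) := Over.mk su
  let γo : Uo ⟶ G := Over.homMk γ hγ
  let gU : X ⊗ Uo ⟶ G := CartesianMonoidalCategory.snd X Uo ≫ γo
  let Φo : X ⊗ Uo ⟶ X ⊗ Uo :=
    lift (lift gU (CartesianMonoidalCategory.fst X Uo) ≫ act.act) (CartesianMonoidalCategory.snd X Uo)
  let Ψo : X ⊗ Uo ⟶ X ⊗ Uo :=
    lift (lift gU⁻¹ (CartesianMonoidalCategory.fst X Uo) ≫ act.act) (CartesianMonoidalCategory.snd X Uo)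
  haveI : IsIso Φo := by
    refine ⟨Ψo, ?_, ?_⟩
    · apply CartesianMonoidalCategory.hom_ext
      · simp only [Φo, Ψo, gU, Category.assoc, lift_fst, Category.id_comp, comp_lift_assoc, GrpObj.comp_inv, lift_snd_assoc]
        rw [act_mul, inv_mul_cancel, act_one]
      · simp [Φo, Ψo]
    · apply CartesianMonoidalCategory.hom_ext
      · simp only [Φo, Ψo, gU, Category.assoc, lift_fst, Category.id_comp, comp_lift_assoc, GrpObj.comp_inv, lift_snd_assoc]
        rw [act_mul, mul_inv_cancel, act_one]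
      · simp [Φo, Ψo]
  let Φ : pullback X.hom su ⟶ pullback X.hom su := Φo.left
  haveI : IsIso Φ := inferInstanceAs (IsIso ((Over.forget _).map Φo))
  have hΦs : Φ ≫ pullback.snd X.hom su = pullback.snd X.hom su :=
    congrArg CommaMorphism.left (lift_snd (lift gU (CartesianMonoidalCategory.fst X Uo) ≫ act.act)
      (CartesianMonoidalCategory.snd X Uo))
  let I : pullback sy su ⟶ pullback X.hom su :=
    pullback.map sy su X.hom su iY (𝟙 U) (𝟙 _) (by simp [sy]) (by simp)
  have hI1 : I ≫ pullback.fst X.hom su = pullback.fst sy su ≫ iY := pullback.lift_fst _ _ _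
  have hI2 : I ≫ pullback.snd X.hom su = pullback.snd sy su := (pullback.lift_snd _ _ _).trans (Category.comp_id _)
  haveI : IsClosedImmersion I := by
    have h : IsPullback I (pullback.fst sy su) (pullback.fst X.hom su) iY :=
      IsPullback.of_right (by rw [hI2]; exact (IsPullback.of_hasPullback sy su).flip) hI1
        (IsPullback.of_hasPullback X.hom su).flip
    exact MorphismProperty.of_isPullback (P := @IsClosedImmersion) h.flip inferInstance
  let M : pullback X.hom su ⟶ pullback X.hom (str k) :=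
    pullback.map X.hom su X.hom (str k) (𝟙 _) j (𝟙 _) (by simp) (by simp [hsu])
  have hM1 : M ≫ pullback.fst X.hom (str k) = pullback.fst X.hom su := (pullback.lift_fst _ _ _).trans (Category.comp_id _)
  have hM2 : M ≫ pullback.snd X.hom (str k) = pullback.snd X.hom su ≫ j := pullback.lift_snd _ _ _
  haveI : IsOpenImmersion M := inferInstance
  let F := (I ≫ Φ) ≫ M
  have hF : F ≫ pullback.snd X.hom (str k) = pullback.snd sy su ≫ j := by
    simp only [F, Category.assoc, hM2, reassoc_of% hΦs, reassoc_of% hI2]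
  have hFs : F ≫ pullback.fst X.hom (str k) ≫ X.hom = pullback.fst sy su ≫ sy := by
    rw [pullback.condition, ← Category.assoc, hF, Category.assoc, hsu, ← pullback.condition]
  have hcl : closure (Set.range F) ∩ (pullback.snd X.hom (str k) ⁻¹' Set.range j) ⊆ Set.range F := by
    have hrange : pullback.snd X.hom (str k) ⁻¹' Set.range j ⊆ Set.range M := by
      intro z hz
      simp only [M, Scheme.Pullback.range_map]
      exact ⟨⟨_, rfl⟩, hz⟩
    rintro v ⟨hv, hv'⟩
    obtain ⟨w, rfl⟩ := hrange hv'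
    have hr : Set.range F = M '' Set.range (I ≫ Φ) := by
      rw [← Set.range_comp]; rfl
    rw [hr] at hv ⊢
    have h1 : w ∈ closure (Set.range (I ≫ Φ)) := by
      rw [(Scheme.Hom.isOpenEmbedding M).isInducing.closure_eq_preimage_closure_image]
      exact hv
    rw [(I ≫ Φ).isClosedEmbedding.isClosed_range.closure_eq] at h1
    exact ⟨w, h1, rfl⟩
  have hslice : ∀ (t : Spec (CommRingCat.of k) ⟶ U) (ht : t ≫ su = 𝟙 _)
      (c : 𝟙_ (Over (Spec (CommRingCat.of k))) ⟶ G), t ≫ γ = c.left →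
      pullback.fst X.hom (str k) (F (AlgEqCyc.slice sy su t ht (genericPoint (clSub ξ)))) = (tr act c).left ξ := by
    intro t ht c hc
    let tp : 𝟙_ (Over (Spec (CommRingCat.of k))) ⟶ Uo := Over.homMk t ht
    let sX : X ⟶ X ⊗ Uo := lift (𝟙 X) (toUnit X ≫ tp)
    have hto : tp ≫ γo = c := Over.OverMorphism.ext hc
    have h2 : sX ≫ Φo ≫ CartesianMonoidalCategory.fst X Uo = tr act c := by
      simp only [sX, Φo, gU, lift_fst, comp_lift_assoc, lift_snd_assoc, Category.assoc, lift_fst, hto, tr]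
    have h3 : AlgEqCyc.slice sy su t ht ≫ I = iY ≫ sX.left := by
      apply pullback.hom_ext
      · rw [Category.assoc, hI1, AlgEqCyc.slice, pullback.lift_fst_assoc, Category.id_comp, Category.assoc,
          show sX.left ≫ pullback.fst X.hom su = 𝟙 _ from congrArg CommaMorphism.left (lift_fst (𝟙 X) (toUnit X ≫ tp)),
          Category.comp_id]
      · simp only [Category.assoc]
        rw [hI2, AlgEqCyc.slice, pullback.lift_snd,
          show sX.left ≫ pullback.snd X.hom su = X.hom ≫ t from congrArg CommaMorphism.left (lift_snd (𝟙 X) (toUnit X ≫ tp))]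
        simp [sy]
    have h4 : AlgEqCyc.slice sy su t ht ≫ F ≫ pullback.fst X.hom (str k) = iY ≫ (tr act c).left := by
      simp only [F, Category.assoc, hM1]
      rw [reassoc_of% h3, ← h2]
      rfl
    have := congrArg (fun φ : clSub ξ ⟶ X.left => φ (genericPoint (clSub ξ))) h4
    simp only [Scheme.Hom.comp_apply] at this
    rw [this, clι_genericPoint]
  exact ratEquiv_family X.hom hδ sy j su hsu F hF hFs hcl t₀ t₁ h₀ h₁ (δ ξ) _ _
    (hslice t₀ h₀ a ha) (hslice t₁ h₁ b hb) (delta_tr act hδ a ξ) (delta_tr act hδ b ξ)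

/-- The coordinate of a rational point of affine space. -/
def val {n : Type u} (a : Spec (CommRingCat.of k) ⟶ 𝔸(n; Spec (CommRingCat.of k))) (i : n) : k :=
  (Scheme.ΓSpecIso (CommRingCat.of k)).hom (a.appTop (AffineSpace.coord _ i))

/-- Two points of an open subset of affine space lie on an open piece of a line. -/
theorem exists_line {n : Type u} (V : (𝔸(n; Spec (CommRingCat.of k))).Opens)
    (a b : Spec (CommRingCat.of k) ⟶ V.toScheme)
    (ha : a ≫ V.ι ≫ (𝔸(n; Spec (CommRingCat.of k)) ↘ Spec (CommRingCat.of k)) = 𝟙 _)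
    (hb : b ≫ V.ι ≫ (𝔸(n; Spec (CommRingCat.of k)) ↘ Spec (CommRingCat.of k)) = 𝟙 _) :
    ∃ (U : Scheme.{u}) (_ : AlgebraicGeometry.IsIntegral U) (j : U ⟶ PL k) (_ : IsOpenImmersion j)
      (L : U ⟶ V.toScheme) (t₀ t₁ : Spec (CommRingCat.of k) ⟶ U),
      L ≫ V.ι ≫ (𝔸(n; Spec (CommRingCat.of k)) ↘ Spec (CommRingCat.of k)) = j ≫ str k ∧
      t₀ ≫ j ≫ str k = 𝟙 _ ∧ t₁ ≫ j ≫ str k = 𝟙 _ ∧ t₀ ≫ L = a ∧ t₁ ≫ L = b := by
  let S := Spec (CommRingCat.of k)
  let pC := Spec.map (CommRingCat.ofHom (C : k →+* k[X]))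
  let Lf : Spec (CommRingCat.of k[X]) ⟶ 𝔸(n; S) := AffineSpace.homOfVector pC fun i =>
    (Scheme.ΓSpecIso (CommRingCat.of k[X])).inv
      ((1 - Polynomial.X) * C (val (a ≫ V.ι) i) + Polynomial.X * C (val (b ≫ V.ι) i))
  have key : ∀ (c : k) (d : Spec (CommRingCat.of k) ⟶ V.toScheme)
      (_ : d ≫ V.ι ≫ (𝔸(n; S) ↘ S) = 𝟙 _)
      (_ : ∀ i, val (d ≫ V.ι) i = (1 - c) * val (a ≫ V.ι) i + c * val (b ≫ V.ι) i),
      Spec.map (CommRingCat.ofHom (evalRingHom c)) ≫ Lf = d ≫ V.ι := by
    intro c d hd hv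
    refine AffineSpace.hom_ext ?_ fun i => ?_
    · rw [Category.assoc, Category.assoc, hd, AffineSpace.homOfVector_over, ← Spec.map_comp, ← Spec.map_id]
      congr 1
      exact CommRingCat.hom_ext (RingHom.ext fun r => eval_C)
    · apply (ConcreteCategory.bijective_of_isIso (Scheme.ΓSpecIso (CommRingCat.of k)).hom).1
      show _ = val (d ≫ V.ι) i
      rw [hv, Scheme.Hom.comp_appTop, CommRingCat.comp_apply, AffineSpace.homOfVector_appTop_coord]
      let pl : k[X] := (1 - Polynomial.X) * C (val (a ≫ V.ι) i) + Polynomial.X * C (val (b ≫ V.ι) i)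
      have h := congrArg (fun φ : CommRingCat.of k[X] ⟶ Γ(Spec (CommRingCat.of k), ⊤) => φ.hom pl)
        (Scheme.ΓSpecIso_inv_naturality (CommRingCat.ofHom (evalRingHom c)))
      simp only [CommRingCat.hom_comp, RingHom.comp_apply, CommRingCat.hom_ofHom, coe_evalRingHom] at h
      rw [← h, ← CommRingCat.comp_apply, Iso.inv_hom_id]
      simp [pl]; ring
  have k0 := key 0 a ha (fun i => by ring)
  have k1 := key 1 b hb (fun i => by ring)
  let U₀ := Lf ⁻¹ᵁ V
  have hrange : ∀ (c : k) (d : Spec (CommRingCat.of k) ⟶ V.toScheme),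
      Spec.map (CommRingCat.ofHom (evalRingHom c)) ≫ Lf = d ≫ V.ι →
      Set.range (Spec.map (CommRingCat.ofHom (evalRingHom c))) ⊆ Set.range U₀.ι := by
    intro c d h
    rintro _ ⟨z, rfl⟩
    rw [Scheme.Opens.range_ι]
    show Lf (Spec.map (CommRingCat.ofHom (evalRingHom c)) z) ∈ V
    rw [← Scheme.Hom.comp_apply, h, Scheme.Hom.comp_apply]
    exact (d z).2
  haveI : Nonempty U₀.toScheme :=
    ⟨(IsOpenImmersion.lift U₀.ι _ (hrange 0 a k0)) (IsLocalRing.closedPoint k)⟩
  haveI : AlgebraicGeometry.IsIntegral U₀.toScheme := inferInstance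
  refine ⟨U₀.toScheme, inferInstance, U₀.ι ≫ Line.aff k 0, inferInstance, Lf ∣_ V,
    IsOpenImmersion.lift U₀.ι _ (hrange 0 a k0), IsOpenImmersion.lift U₀.ι _ (hrange 1 b k1), ?_, ?_, ?_, ?_, ?_⟩
  · rw [morphismRestrict_ι_assoc, Category.assoc, Line.aff_str, AffineSpace.homOfVector_over]
  · rw [Category.assoc, IsOpenImmersion.lift_fac_assoc]
    exact Line.pt_str k 0 0
  · rw [Category.assoc, IsOpenImmersion.lift_fac_assoc]
    exact Line.pt_str k 0 1
  · rw [← cancel_mono V.ι, Category.assoc, morphismRestrict_ι, IsOpenImmersion.lift_fac_assoc, k0]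
  · rw [← cancel_mono V.ι, Category.assoc, morphismRestrict_ι, IsOpenImmersion.lift_fac_assoc, k1]

set_option maxHeartbeats 800000 in
/-- Translation preserves classes. -/
theorem ratEquiv_tr [AlgebraicGeometry.IsIntegral X.left] [LocallyOfFiniteType X.hom] [QuasiCompact X.hom]
    [IsSeparated X.hom] [Smooth G.hom] [ConnectedSpace G.left] {n : Type u}
    (O : G.left.Opens) (hO : (O : Set G.left).Nonempty) (V : (𝔸(n; Spec (CommRingCat.of k))).Opens)
    (e : O.toScheme ≅ V.toScheme)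
    (he : e.hom ≫ V.ι ≫ (𝔸(n; Spec (CommRingCat.of k)) ↘ Spec (CommRingCat.of k)) = O.ι ≫ G.hom)
    {δ : X.left → ℤ} (hδ : Cyc.DeltaCompat X.hom δ fun _ => 0) (ξ : X.left)
    (g : 𝟙_ (Over (Spec (CommRingCat.of k))) ⟶ G) :
    Cyc.RatEquiv δ (δ ξ) (Function.locallyFinsuppWithin.single ξ (1 : ℤ) : AlgebraicCycle X.left ℤ)
      (Function.locallyFinsuppWithin.single ((tr act g).left ξ) (1 : ℤ)) := by
  haveI : GeometricallyReduced G.hom := Groth.Agent.AV.geometricallyReduced_of_smooth G.hom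
  haveI : GeometricallyIntegral G.hom := Groth.Agent.AV.geometricallyIntegral_of_connected G
  haveI : AlgebraicGeometry.IsIntegral G.left := GeometricallyIntegral.isIntegral_of_subsingleton G.hom
  haveI : JacobsonSpace G.left := LocallyOfFiniteType.jacobsonSpace G.hom
  let m : G ⟶ G := lift (toUnit G ≫ g) (𝟙 G) ≫ μ[G]
  let m' : G ⟶ G := lift (toUnit G ≫ g⁻¹) (𝟙 G) ≫ μ[G]
  have hm : m' ≫ m = 𝟙 G := by
    simp only [m, m', ← Hom.mul_def, MonObj.comp_mul, Category.comp_id, comp_toUnit_assoc]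
    rw [← _root_.mul_assoc, ← MonObj.comp_mul, mul_inv_cancel, MonObj.comp_one, _root_.one_mul]
  obtain ⟨o, ho⟩ := hO
  have hne : ((m.left ⁻¹ᵁ O : G.left.Opens) : Set G.left).Nonempty := ⟨m'.left o, by
    show m.left (m'.left o) ∈ O
    rw [← Scheme.Hom.comp_apply, ← Over.comp_left, hm]
    exact ho⟩
  obtain ⟨z, hz⟩ := nonempty_preirreducible_inter O.2 (m.left ⁻¹ᵁ O).2 ⟨o, ho⟩ hne
  obtain ⟨w, hw, hwc⟩ := nonempty_inter_closedPoints ⟨z, hz⟩ ((O.2.inter (m.left ⁻¹ᵁ O).2).isLocallyClosed)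
  let b : 𝟙_ (Over (Spec (CommRingCat.of k))) ⟶ G :=
    Over.homMk (pointOfClosedPoint G.hom w hwc) (pointOfClosedPoint_comp _ _ _)
  have hbw : b.left (IsLocalRing.closedPoint k) = w := pointOfClosedPoint_apply G.hom w hwc _
  have hbm : b ≫ m = g * b := by
    simp only [m, ← Hom.mul_def, MonObj.comp_mul, Category.comp_id]
    rw [show b ≫ toUnit G ≫ g = g from by rw [← Category.assoc, show b ≫ toUnit G = 𝟙 _ from toUnit_unique _ _, Category.id_comp]]
  have hlift : ∀ c : 𝟙_ (Over (Spec (CommRingCat.of k))) ⟶ G, c.left (IsLocalRing.closedPoint k) ∈ O →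
      ∃ c' : Spec (CommRingCat.of k) ⟶ O.toScheme, c' ≫ O.ι = c.left ∧ c' ≫ O.ι ≫ G.hom = 𝟙 _ := by
    intro c hc
    have hr : Set.range c.left ⊆ Set.range O.ι := by
      rintro _ ⟨z, rfl⟩
      rw [Scheme.Opens.range_ι, show z = IsLocalRing.closedPoint k from Subsingleton.elim (α := PrimeSpectrum k) _ _]
      exact hc
    refine ⟨IsOpenImmersion.lift O.ι c.left hr, IsOpenImmersion.lift_fac _ _ _, ?_⟩
    rw [IsOpenImmersion.lift_fac_assoc]
    exact Over.w c
  obtain ⟨b', hb', hb''⟩ := hlift b (by rw [hbw]; exact hw.1)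
  obtain ⟨a', ha', ha''⟩ := hlift (g * b) (by
    rw [← hbm, Over.comp_left, Scheme.Hom.comp_apply, hbw]; exact hw.2)
  obtain ⟨U, _, j, _, L, t₀, t₁, hL, h₀, h₁, hL₀, hL₁⟩ := exists_line V (b' ≫ e.hom) (a' ≫ e.hom)
    (by rw [Category.assoc, he]; exact hb'') (by rw [Category.assoc, he]; exact ha'')
  have hLγ : (L ≫ e.inv ≫ O.ι) ≫ G.hom = j ≫ str k := by
    rw [← hL, Category.assoc, Category.assoc, ← he, Iso.inv_hom_id_assoc]
  have h := ratEquiv_of_curve act hδ ((tr act b⁻¹).left ξ) j (j ≫ str k) rfl (L ≫ e.inv ≫ O.ι) hLγ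
    t₀ t₁ h₀ h₁ b (g * b)
    (by rw [reassoc_of% hL₀, Iso.hom_inv_id_assoc]; exact hb')
    (by rw [reassoc_of% hL₁, Iso.hom_inv_id_assoc]; exact ha')
  rw [delta_tr act hδ] at h
  have e1 : (tr act b).left ((tr act b⁻¹).left ξ) = ξ := by
    rw [← Scheme.Hom.comp_apply, ← Over.comp_left, tr_comp, mul_inv_cancel, tr_one]; rfl
  have e2 : (tr act (g * b)).left ((tr act b⁻¹).left ξ) = (tr act g).left ξ := by
    rw [← Scheme.Hom.comp_apply, ← Over.comp_left, tr_comp, mul_inv_cancel_right]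
  rwa [e1, e2] at h

end Groth.L22.Translate
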